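import Mathlib
import Cfsg.Agent.Lib.ClassSize.Camina
import Cfsg.Agent.Lib.Basic.JordanCover
import Cfsg.Agent.S4035

/-!
# Class sizes `1, n, m, nm` with `n, m` coprime (Camina): second part

Noncentral `p`-elements of class size `m` have `p ∣ m`.
-/

set_option autoImplicit false
set_option linter.unusedSectionVars false
set_option linter.style.longLine false
set_option linter.style.haveILetI false

namespace Cfsg.Agent.Lib.ClassSize.Camina

open Subgroup Cfsg.Agent.Lib.ClassSize.Basic Cfsg.Agent.Lib.ClassSize.Coprime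

universe u

section abstract

variable {Γ : Type*} [Group Γ] [Finite Γ]

/-- A `p`-element in the centre of a Sylow subgroup, if `p` does not divide its class size. -/
theorem exists_conj_mem_comm {p : ℕ} [Fact p.Prime] (P : Sylow p Γ) {y : Γ} {e : ℕ}
    (hy : orderOf y = p ^ e) (hp : ¬ p ∣ cs y) :
    ∃ h : Γ, h * y * h⁻¹ ∈ (P : Subgroup Γ) ∧ ∀ t ∈ (P : Subgroup Γ), Commute t (h * y * h⁻¹) := by
  obtain ⟨P', hP'⟩ := exists_sylow_le_cent hp
  -- `y` lies in `P'`
  have hy' : y ∈ (P' : Subgroup Γ) := by
    set C := cent y with hC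
    set y₀ : C := ⟨y, mem_cent_self y⟩ with hy₀
    have h1 : y₀ ∈ center C := by
      rw [Subgroup.mem_center_iff]
      intro g
      apply Subtype.ext
      exact (mem_cent_iff.1 g.2).symm
    have ho : orderOf y₀ = p ^ e := by
      rw [← hy]
      exact Subgroup.orderOf_mk y _
    have h2 : y₀ ∈ ((P'.subtype hP' : Sylow p C) : Subgroup C) :=
      mem_sylow_of_abelian_normal (N := center C) (fun a ha b hb => (Subgroup.mem_center_iff.1 hb a).symm.symm) h1 ho _
    rw [Sylow.coe_subtype, Subgroup.mem_subgroupOf] at h2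
    exact h2
  obtain ⟨g, hg⟩ := MulAction.exists_smul_eq Γ P' P
  refine ⟨g, ?_, ?_⟩
  · rw [← hg, Sylow.coe_subgroup_smul]
    exact ⟨y, hy', rfl⟩
  · intro t ht
    rw [← hg, Sylow.coe_subgroup_smul] at ht
    obtain ⟨t', ht', rfl⟩ := ht
    have h1 : Commute y t' := mem_cent_iff.1 (hP' ht')
    show (MulAut.conj g) t' * (g * y * g⁻¹) = (g * y * g⁻¹) * (MulAut.conj g) t'
    simp only [MulAut.conj_apply]
    calc g * t' * g⁻¹ * (g * y * g⁻¹) = g * (t' * y) * g⁻¹ := by group
      _ = g * (y * t') * g⁻¹ := by rw [h1.eq]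
      _ = _ := by group

/-- A Sylow subgroup inside `cent g'` containing a given `p`-element of `cent g'`. -/
theorem exists_sylow_mem_le_cent {p : ℕ} [Fact p.Prime] {b g' : Γ} {e : ℕ} (hb : orderOf b = p ^ e)
    (hc : Commute g' b) (hp : ¬ p ∣ cs g') :
    ∃ P : Sylow p Γ, b ∈ (P : Subgroup Γ) ∧ (P : Subgroup Γ) ≤ cent g' := by
  have hb' : b ∈ cent g' := mem_cent_iff.2 hc
  have ho : orderOf (⟨b, hb'⟩ : cent g') = p ^ e := by
    rw [← hb]
    exact Subgroup.orderOf_mk b _
  obtain ⟨Q, hQ⟩ := Cfsg.Agent.Lib.Basic.SylowUtil.exists_sylow_of_orderOf ho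
  obtain ⟨P, hP⟩ := Cfsg.Agent.Lib.Basic.SylowUtil.sylow_map_of_not_dvd_index hp Q
  refine ⟨P, ?_, ?_⟩
  · rw [hP]
    exact ⟨⟨b, hb'⟩, hQ, rfl⟩
  · rw [hP]
    rintro _ ⟨a, _, rfl⟩
    exact a.2

/-- Jordan: an element all of whose conjugates' centralizers cover the group is central. -/
theorem mem_center_of_forall_comm {y : Γ} (h : ∀ g : Γ, ∃ c : Γ, Commute g (c * y * c⁻¹)) :
    y ∈ center Γ := by
  have h1 : cent y = ⊤ := by
    apply Cfsg.Agent.Lib.Basic.JordanCover.eq_top_of_forall_conj_mem
    intro g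
    obtain ⟨c, hc⟩ := h g
    refine ⟨c⁻¹, ?_⟩
    rw [mem_cent_iff]
    have h2 : g * (c * y * c⁻¹) = (c * y * c⁻¹) * g := hc
    calc y * (c⁻¹ * g * c⁻¹⁻¹) = c⁻¹ * ((c * y * c⁻¹) * g) * c := by group
      _ = c⁻¹ * (g * (c * y * c⁻¹)) * c := by rw [h2]
      _ = _ := by group
  rw [← index_cent_eq_one_iff, Subgroup.index_eq_one]
  exact h1

/-- `p`-part of a general element. -/
theorem exists_parts' {p : ℕ} [Fact p.Prime] (g : Γ) :
    ∃ a b : Γ, g = a * b ∧ Commute a b ∧ Nat.Coprime (orderOf a) p ∧ ∃ e : ℕ, orderOf b = p ^ e := by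
  obtain ⟨a, b, h1, h2, h3, k, h4⟩ := Cfsg.Agent.S4035.exists_parts p g
  obtain ⟨j, _, hj⟩ := (Nat.dvd_prime_pow (Fact.out)).1 (orderOf_dvd_of_pow_eq_one h4)
  exact ⟨a, b, h1, h2, h3, j, hj⟩

/-- The Jordan argument with all `p'`-elements having class sizes prime to `p`. -/
theorem mem_center_of_all_not_dvd {p : ℕ} [Fact p.Prime] {y : Γ} {e : ℕ} (hy : orderOf y = p ^ e)
    (hp : ¬ p ∣ cs y) (hall : ∀ a : Γ, Nat.Coprime (orderOf a) p → ¬ p ∣ cs a) : y ∈ center Γ := by
  apply mem_center_of_forall_comm
  intro g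
  obtain ⟨a, b, rfl, hab, hco, j, hj⟩ := exists_parts' (p := p) g
  obtain ⟨P, hbP, hPa⟩ := exists_sylow_mem_le_cent hj hab (hall a hco)
  obtain ⟨c, hc1, hc2⟩ := exists_conj_mem_comm P hy hp
  refine ⟨c, ?_⟩
  exact (show Commute a (c * y * c⁻¹) from mem_cent_iff.1 (hPa hc1)).mul_left (hc2 b hbP)

omit [Finite Γ] in
/-- The class size in a subgroup. -/
theorem cs_subtype (K : Subgroup Γ) (a : K) : cs a = (cent (a : Γ)).relIndex K := by
  show (cent a).index = ((cent (a : Γ)).subgroupOf K).index
  congr 1
  ext u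
  rw [Subgroup.mem_subgroupOf, mem_cent_iff, mem_cent_iff]
  constructor
  · intro h
    exact congrArg Subtype.val h
  · intro h
    exact Subtype.ext h

/-- Relative index with coprime indices. -/
theorem relIndex_of_coprime {A B : Subgroup Γ} (hc : Nat.Coprime A.index B.index) :
    A.relIndex B = A.index := by
  have h1 : (A ⊓ B).relIndex B * B.index = (A ⊓ B).index := Subgroup.relIndex_mul_index inf_le_right
  rw [Subgroup.inf_relIndex_right, index_inf_of_coprime hc] at h1
  exact Nat.eq_of_mul_eq_mul_right (Nat.pos_of_ne_zero Subgroup.index_ne_zero_of_finite) h1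

end abstract

variable {G : Type u} [Group G] [Finite G]

section stepII

variable {n m : ℕ} (H : Hyp G n m)

include H

/-- A `p`-element of class size `m` and a `p`-element of class size `n` cannot coexist if `p ∤ m`. -/
theorem no_elt_both {p : ℕ} [Fact p.Prime] {y c : G} {e f : ℕ} (hy : cs y = m) (hoy : orderOf y = p ^ e)
    (hp : ¬ p ∣ m) (hc : cs c = n) (hoc : orderOf c = p ^ f) : False := by
  have hn1 := H.hn
  have hm1 := H.hm
  set K := cent c with hK
  have hyK : y ∈ K := mem_cent_iff.2 (comm_of_sizes H hc hy)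
  set y' : K := ⟨y, hyK⟩ with hy'
  have hcop : Nat.Coprime (cent y).index K.index := by
    show Nat.Coprime (cs y) (cs c)
    rw [hy, hc]
    exact H.hcop.symm
  have hsz : cs y' = m := by
    rw [cs_subtype]
    show (cent y).relIndex K = m
    rw [relIndex_of_coprime hcop]
    exact hy
  have hcent : y' ∈ center K := by
    refine mem_center_of_all_not_dvd (p := p) (e := e) ?_ (by rwa [hsz]) ?_
    · rw [← hoy]
      exact Subgroup.orderOf_mk y _
    · intro a ha
      have h1 : Commute c (a : G) := mem_cent_iff.1 a.2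
      have h2 : Nat.Coprime (orderOf c) (orderOf (a : G)) := by
        rw [hoc]
        apply Nat.Coprime.pow_left
        rw [Nat.coprime_comm, Subgroup.orderOf_coe a]
        exact ha
      have h3 := cent_mul_eq_inf h1 h2
      rw [cs_subtype]
      set k := (cent (a : G)).relIndex K with hk
      have h4 : k * n = cs (c * (a : G)) := by
        have h5 : (cent (a : G) ⊓ K).relIndex K * K.index = (cent (a : G) ⊓ K).index :=
          Subgroup.relIndex_mul_index inf_le_right
        rw [Subgroup.inf_relIndex_right] at h5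
        have h6 : K.index = n := hc
        rw [h6] at h5
        rw [hk, h5]
        show _ = (cent (c * (a : G))).index
        rw [h3, inf_comm]
      have h7 : k = 1 ∨ k = m := by
        have hkpos : 0 < k := Nat.pos_of_ne_zero (Subgroup.index_ne_zero_of_finite (H := (cent (a : G)).subgroupOf K))
        rcases H.hs (c * (a : G)) with h | h | h | h <;> rw [h] at h4
        · exfalso
          nlinarith
        · left
          nlinarith
        · exfalso
          have h8 : n ∣ m := ⟨k, by rw [← h4]; ring⟩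
          have := Nat.eq_one_of_dvd_coprimes H.hcop (dvd_refl n) h8
          omega
        · right
          have h8 : k * n = m * n := by rw [h4]; ring
          exact Nat.eq_of_mul_eq_mul_right (by omega) h8
      rcases h7 with h7 | h7 <;> rw [h7]
      · exact fun h => (Nat.Prime.one_lt (Fact.out : p.Prime)).ne' (Nat.dvd_one.1 h)
      · exact hp
  -- contradiction: `K ≤ cent y`
  have h1 : K ≤ cent y := by
    intro u hu
    have h2 := (Subgroup.mem_center_iff.1 hcent ⟨u, hu⟩)
    have h3 : u * y = y * u := congrArg Subtype.val h2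
    exact mem_cent_iff.2 h3.symm
  have h2 : (cent y).relIndex K = 1 := Subgroup.relIndex_eq_one.2 h1
  rw [relIndex_of_coprime hcop] at h2
  have h3 : (cent y).index = m := hy
  omega

/-- A `p`-element of class size `m` has `p ∣ m`. -/
theorem dvd_of_elt {p : ℕ} [Fact p.Prime] {y : G} {e : ℕ} (hy : cs y = m) (hoy : orderOf y = p ^ e) :
    p ∣ m := by
  by_contra hp
  have hn1 := H.hn
  have hm1 := H.hm
  have hpy : ¬ p ∣ cs y := by rwa [hy]
  obtain ⟨x₀, hx₀⟩ := H.hN
  have key : ∀ g : G, ∃ c : G, Commute g (c * y * c⁻¹) := by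
    intro g
    obtain ⟨g', b, rfl, hab, hco, j, hj⟩ := exists_parts' (p := p) g
    have hszc : ∀ c : G, cs (c * y * c⁻¹) = m := fun c => by rw [cs_conj, hy]
    have hnotdvd : ¬ p ∣ cs g' → ∃ c : G, Commute (g' * b) (c * y * c⁻¹) := by
      intro hpg
      obtain ⟨P, hbP, hPa⟩ := exists_sylow_mem_le_cent hj hab hpg
      obtain ⟨c, hc1, hc2⟩ := exists_conj_mem_comm P hoy hpy
      exact ⟨c, (show Commute g' (c * y * c⁻¹) from mem_cent_iff.1 (hPa hc1)).mul_left (hc2 b hbP)⟩
    rcases H.hs g' with h | h | h | h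
    · apply hnotdvd
      rw [h]
      exact fun h => (Nat.Prime.one_lt (Fact.out : p.Prime)).ne' (Nat.dvd_one.1 h)
    · -- size `n`
      obtain ⟨P, hbP⟩ := Cfsg.Agent.Lib.Basic.SylowUtil.exists_sylow_of_orderOf hj
      obtain ⟨c, hc1, hc2⟩ := exists_conj_mem_comm P hoy hpy
      exact ⟨c, (comm_of_sizes H h (hszc c)).mul_left (hc2 b hbP)⟩
    · apply hnotdvd
      rwa [h]
    · -- size `nm`
      set C' := cent g' with hC'
      have hbC : b ∈ C' := mem_cent_iff.2 hab
      have ho : orderOf (⟨b, hbC⟩ : C') = p ^ j := by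
        rw [← hj]
        exact Subgroup.orderOf_mk b _
      obtain ⟨Q, hQ⟩ := Cfsg.Agent.Lib.Basic.SylowUtil.exists_sylow_of_orderOf ho
      set S : Subgroup G := (Q : Subgroup C').map C'.subtype with hS
      have hSp : IsPGroup p S := Q.2.map _
      have hSC : S ≤ C' := Subgroup.map_subtype_le _
      have hbS : b ∈ S := ⟨⟨b, hbC⟩, hQ, rfl⟩
      have hSidx : ¬ p ∣ S.relIndex C' := by
        have h1 : S.relIndex C' = (Q : Subgroup C').index := by
          show (Subgroup.comap C'.subtype (S)).index = _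
          rw [hS, Subgroup.comap_map_eq_self_of_injective C'.subtype_injective]
        rw [h1]
        exact Q.not_dvd_index
      have hcent : ∀ c ∈ S, C' ≤ cent c := by
        intro c hc
        obtain ⟨i, hi⟩ := Cfsg.Agent.Lib.Basic.SylowUtil.orderOf_eq_pow_of_isPGroup hSp hc
        have h1 : Commute c g' := (mem_cent_iff.1 (hSC hc)).symm
        have h2 : Nat.Coprime (orderOf c) (orderOf g') := by
          rw [hi]
          exact Nat.Coprime.pow_left _ hco.symm
        exact cent_le_of_max H h1 h2 h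
      by_cases hex : ∃ c ∈ S, cs c = n * m
      · obtain ⟨c, hcS, hcs⟩ := hex
        have hCc : C' = cent c := eq_of_le_of_index_eq (hcent c hcS) (by
          show cs g' = cs c
          rw [h, hcs])
        obtain ⟨P₁, hP₁⟩ := hSp.exists_le_sylow
        obtain ⟨c₀, hc1, hc2⟩ := exists_conj_mem_comm P₁ hoy hpy
        refine ⟨c₀, ?_⟩
        have h1 : c₀ * y * c₀⁻¹ ∈ cent c := mem_cent_iff.2 (hc2 c (hP₁ hcS)).eq
        rw [← hCc] at h1
        exact (show Commute g' (c₀ * y * c₀⁻¹) from mem_cent_iff.1 h1).mul_left (hc2 b (hP₁ hbS))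
      · push Not at hex
        set K := cent x₀ with hK
        have hSK : S ≤ K := by
          intro c hc
          obtain ⟨i, hi⟩ := Cfsg.Agent.Lib.Basic.SylowUtil.orderOf_eq_pow_of_isPGroup hSp hc
          rcases H.hs c with h1 | h1 | h1 | h1
          · exact center_le_cent x₀ (index_cent_eq_one_iff.1 h1)
          · exact (no_elt_both H hy hoy hp h1 hi).elim
          · exact mem_cent_iff.2 (comm_of_sizes H hx₀ h1)
          · exact absurd h1 (hex c hc)
        have hidx : S.relIndex K = S.relIndex C' * m := by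
          have h1 : S.relIndex K * K.index = S.index := Subgroup.relIndex_mul_index hSK
          have h2 : S.relIndex C' * C'.index = S.index := Subgroup.relIndex_mul_index hSC
          have h3 : K.index = n := hx₀
          have h4 : C'.index = n * m := h
          rw [h3] at h1
          rw [h4] at h2
          have h5 : S.relIndex K * n = (S.relIndex C' * m) * n := by
            rw [h1, ← h2]
            ring
          exact Nat.eq_of_mul_eq_mul_right (by omega) h5
        have hS'p : IsPGroup p (S.subgroupOf K) := hSp.comap_subtype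
        have hS'idx : ¬ p ∣ (S.subgroupOf K).index := by
          show ¬ p ∣ S.relIndex K
          rw [hidx]
          intro h1
          rcases (Nat.Prime.dvd_mul Fact.out).1 h1 with h2 | h2
          · exact hSidx h2
          · exact hp h2
        set P₂ : Sylow p K := hS'p.toSylow hS'idx with hP₂
        have hyK : y ∈ K := mem_cent_iff.2 (comm_of_sizes H hx₀ hy)
        have hcop : Nat.Coprime (cent y).index K.index := by
          show Nat.Coprime (cs y) (cs x₀)
          rw [hy, hx₀]
          exact H.hcop.symm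
        have hsz : cs (⟨y, hyK⟩ : K) = m := by
          rw [cs_subtype]
          show (cent y).relIndex K = m
          rw [relIndex_of_coprime hcop]
          exact hy
        have ho' : orderOf (⟨y, hyK⟩ : K) = p ^ e := by
          rw [← hoy]
          exact Subgroup.orderOf_mk y _
        obtain ⟨c, hc1, hc2⟩ := exists_conj_mem_comm P₂ ho' (by rwa [hsz])
        refine ⟨(c : G), ?_⟩
        have hc1' : (c : G) * y * (c : G)⁻¹ ∈ S := by
          have h1 : (c * ⟨y, hyK⟩ * c⁻¹) ∈ S.subgroupOf K := by
            rw [hP₂, IsPGroup.toSylow_coe] at hc1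
            exact hc1
          exact Subgroup.mem_subgroupOf.1 h1
        have h5 : Commute g' ((c : G) * y * (c : G)⁻¹) := mem_cent_iff.1 (hSC hc1')
        have h6 : Commute b ((c : G) * y * (c : G)⁻¹) := by
          have hbK : (⟨b, hSK hbS⟩ : K) ∈ (P₂ : Subgroup K) := by
            rw [hP₂, IsPGroup.toSylow_coe]
            exact Subgroup.mem_subgroupOf.2 hbS
          have h7 := hc2 _ hbK
          exact congrArg Subtype.val h7.eq
        exact h5.mul_left h6
  have hyc := mem_center_of_forall_comm key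
  have h1 := index_cent_eq_one_iff.2 hyc
  have h2 : (cent y).index = m := hy
  omega

/-- A `p`-element of class size `n` has `p ∣ n`. -/
theorem dvd_of_elt_left {p : ℕ} [Fact p.Prime] {x : G} {e : ℕ} (hx : cs x = n) (hox : orderOf x = p ^ e) :
    p ∣ n := dvd_of_elt H.symm hx hox

/-- For `p ∤ nm`, `p`-elements are central. -/
theorem mem_center_of_not_dvd_mul {p : ℕ} [Fact p.Prime] (hp : ¬ p ∣ n * m) {y : G} {e : ℕ}
    (hoy : orderOf y = p ^ e) : y ∈ center G := by
  have hall : ∀ a : G, ¬ p ∣ cs a := by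
    intro a
    have hpn : ¬ p ∣ n := fun h => hp (h.trans (dvd_mul_right _ _))
    have hpm : ¬ p ∣ m := fun h => hp (h.trans (dvd_mul_left _ _))
    rcases H.hs a with h | h | h | h <;> rw [h]
    · exact fun h => (Nat.Prime.one_lt (Fact.out : p.Prime)).ne' (Nat.dvd_one.1 h)
    · exact hpn
    · exact hpm
    · exact hp
  exact mem_center_of_all_not_dvd hoy (hall y) (fun a _ => hall a)

end stepII

end Cfsg.Agent.Lib.ClassSize.Camina
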