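import Mathlib
import Cfsg.Agent.Lib.ClassSize.Camina2
import Cfsg.Agent.Lib.Nilpotent.Elements
import Cfsg.Agent.Lib.Basic.SylowUtil

/-!
# Class sizes `1, n, m, nm` with `n, m` coprime (Camina): nilpotency

Centralizers of primary elements of class size `m` are nilpotent, `n` is a prime power, and the
Sylow subgroups are normal.
-/

set_option autoImplicit false
set_option linter.unusedSectionVars false
set_option linter.style.longLine false
set_option linter.style.haveILetI false

namespace Cfsg.Agent.Lib.ClassSize.Camina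

open Subgroup Cfsg.Agent.Lib.ClassSize.Basic Cfsg.Agent.Lib.ClassSize.Coprime

universe u

section abstract

variable {Γ : Type*} [Group Γ] [Finite Γ]

omit [Finite Γ] in
/-- A normal subgroup supplementing `C`: the relative index is the index. -/
theorem relIndex_eq_index_of_sup (C N : Subgroup Γ) [hN : N.Normal] (hs : C ⊔ N = ⊤) [Finite Γ] :
    C.relIndex N = C.index := by
  have h1 : (C ⊓ N).relIndex N * N.relIndex (C ⊔ N) = (C ⊓ N).relIndex (C ⊔ N) :=
    Subgroup.relIndex_mul_relIndex _ _ _ inf_le_right le_sup_right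
  have h2 : (C ⊓ N).relIndex C * C.relIndex (C ⊔ N) = (C ⊓ N).relIndex (C ⊔ N) :=
    Subgroup.relIndex_mul_relIndex _ _ _ inf_le_left le_sup_left
  have h3 : N.relIndex (C ⊔ N) = N.relIndex C := by
    rw [sup_comm]
    exact Subgroup.relIndex_sup_left C N
  have h4 : (C ⊓ N).relIndex C = N.relIndex C := Subgroup.inf_relIndex_left _ _
  have h5 : (C ⊓ N).relIndex N = C.relIndex N := Subgroup.inf_relIndex_right _ _
  have h0 : N.relIndex C ≠ 0 := Subgroup.FiniteIndex.index_ne_zero
  have h6 : C.relIndex N = C.relIndex (C ⊔ N) := by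
    rw [h3, h5] at h1
    rw [h4] at h2
    rw [← h2] at h1
    rw [mul_comm] at h1
    exact Nat.eq_of_mul_eq_mul_left (Nat.pos_of_ne_zero h0) h1
  rw [h6, hs, Subgroup.relIndex_top_right]

/-- The class of `x` has `cs x` elements. -/
theorem ncard_carrier (x : Γ) : (ConjClasses.mk x).carrier.ncard = cs x := by
  have h1 : (ConjClasses.mk x).carrier = classOf x := by
    ext z
    rw [ConjClasses.mem_carrier_iff_mk_eq, ConjClasses.mk_eq_mk_iff_isConj]
    exact isConj_comm
  rw [h1, ← card_classOf]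
  rfl

/-- A normal subgroup of a `p`-group, not in the centre: an element in the second centre. -/
theorem exists_mem_second_center {p : ℕ} [Fact p.Prime] {P : Type*} [Group P] [Finite P]
    (hP : IsPGroup p P) (D : Subgroup P) [hD : D.Normal] (hne : ¬ D ≤ center P) :
    ∃ e ∈ D, e ∉ center P ∧ ∀ t : P, t * e * t⁻¹ * e⁻¹ ∈ center P := by
  classical
  set π := QuotientGroup.mk' (center P) with hπ
  haveI : Group.IsNilpotent (P ⧸ center P) := (hP.to_quotient (center P)).isNilpotent
  have hDn : (D.map π).Normal := Subgroup.Normal.map hD π (QuotientGroup.mk'_surjective _)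
  have hne' : D.map π ≠ ⊥ := by
    intro h
    apply hne
    intro e he
    have h1 : π e ∈ D.map π := Subgroup.mem_map_of_mem _ he
    rw [h, Subgroup.mem_bot] at h1
    exact TwoSize.mk_eq_one_iff.1 h1
  have h1 := Cfsg.Agent.Lib.Basic.SylowUtil.inf_center_ne_bot_of_isNilpotent hne'
  obtain ⟨⟨d, hd⟩, hd1'⟩ := (Subgroup.ne_bot_iff_exists_ne_one).mp h1
  have hd1 : d ≠ 1 := fun h => hd1' (Subtype.ext h)
  obtain ⟨e, heD, rfl⟩ := hd.1
  refine ⟨e, heD, fun h => hd1 (TwoSize.mk_eq_one_iff.2 h), fun t => ?_⟩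
  apply TwoSize.mk_eq_one_iff.1
  have h2 : π t * π e = π e * π t := (Subgroup.mem_center_iff.1 hd.2 (π t))
  show π (t * e * t⁻¹ * e⁻¹) = 1
  rw [map_mul, map_mul, map_mul, map_inv, map_inv, h2]
  group

/-- A normal `p`-subgroup lies in every Sylow `p`-subgroup. -/
theorem normal_le_sylow {p : ℕ} [Fact p.Prime] {D : Subgroup Γ} [hD : D.Normal] (hDp : IsPGroup p D)
    (P : Sylow p Γ) : D ≤ (P : Subgroup Γ) := by
  obtain ⟨Q, hQ⟩ := hDp.exists_le_sylow
  obtain ⟨g, hg⟩ := MulAction.exists_smul_eq Γ Q P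
  intro x hx
  rw [← hg, Sylow.coe_subgroup_smul]
  refine ⟨g⁻¹ * x * g, hQ ?_, ?_⟩
  · have := hD.conj_mem x hx g⁻¹
    simpa using this
  · simp [MulAut.conj_apply]
    group

end abstract

variable {G : Type u} [Group G] [Finite G]

section stepIII

variable {n m : ℕ} (H : Hyp G n m)

include H

/-- The size of a coprime element in the centralizer of an element of size `n`. -/
theorem relIndex_of_comm {c a : G} (hc : cs c = n) (h1 : Commute c a)
    (h2 : Nat.Coprime (orderOf c) (orderOf a)) :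
    (cent a).relIndex (cent c) = 1 ∨ (cent a).relIndex (cent c) = m := by
  have hn1 := H.hn
  have hm1 := H.hm
  have h3 := cent_mul_eq_inf h1 h2
  set K := cent c with hK
  set k := (cent a).relIndex K with hk
  have h4 : k * n = cs (c * a) := by
    have h5 : (cent a ⊓ K).relIndex K * K.index = (cent a ⊓ K).index :=
      Subgroup.relIndex_mul_index inf_le_right
    rw [Subgroup.inf_relIndex_right] at h5
    have h6 : K.index = n := hc
    rw [h6] at h5
    rw [hk, h5]
    show _ = (cent (c * a)).index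
    rw [h3, inf_comm]
  have hkpos : 0 < k := Nat.pos_of_ne_zero (Subgroup.index_ne_zero_of_finite (H := (cent a).subgroupOf K))
  rcases H.hs (c * a) with h | h | h | h <;> rw [h] at h4
  · exfalso
    nlinarith
  · left
    nlinarith
  · exfalso
    have h8 : n ∣ m := ⟨k, by rw [← h4]; ring⟩
    have := Nat.eq_one_of_dvd_coprimes H.hcop (dvd_refl n) h8
    omega
  · right
    have h8 : k * n = m * n := by rw [h4]; ring
    exact Nat.eq_of_mul_eq_mul_right (by omega) h8

/-- A primary element of class size `m`. -/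
theorem exists_primary_right : ∃ (y : G) (s e : ℕ), s.Prime ∧ cs y = m ∧ orderOf y = s ^ e := by
  have hm1 := H.hm
  obtain ⟨y₀, hy₀⟩ := H.hM
  have hnc : y₀ ∉ center G := by
    intro h
    have h1 := index_cent_eq_one_iff.2 h
    have h2 : (cent y₀).index = m := hy₀
    omega
  obtain ⟨k, hk, s, e, hs, ho⟩ := exists_primary_pow_notMem hnc
  refine ⟨y₀ ^ k, s, e, hs, ?_, ho⟩
  have hd : cs (y₀ ^ k) ∣ m := by
    rw [← hy₀]
    exact cs_dvd_of_pow y₀ k
  rcases H.eq_of_dvd_right hd with h | h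
  · exact absurd (index_cent_eq_one_iff.1 h) hk
  · exact h

/-- Centralizers of primary elements of class size `m` are nilpotent and `n` is a prime power. -/
theorem nilp_cent {q : ℕ} [Fact q.Prime] {y : G} {e : ℕ} (hy : cs y = m) (hoy : orderOf y = q ^ e) :
    Group.IsNilpotent (cent y) ∧ IsPrimePow n := by
  have hn1 := H.hn
  have hm1 := H.hm
  have hq : q.Prime := Fact.out
  have hqm : q ∣ m := dvd_of_elt H hy hoy
  have hqn : ¬ q ∣ n := fun h => by
    have := Nat.eq_one_of_dvd_coprimes H.hcop h hqm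
    have h2 := hq.one_lt
    omega
  set Γ := cent y with hΓ
  -- sizes of `q'`-elements in `Γ`
  have hsz : ∀ u : Γ, Nat.Coprime (orderOf u) q → cs u = 1 ∨ cs u = n := by
    intro u hu
    rw [cs_subtype]
    apply relIndex_of_comm H.symm hy (mem_cent_iff.1 u.2)
    rw [hoy, Subgroup.orderOf_coe u]
    exact Nat.Coprime.pow_left _ hu.symm
  obtain ⟨Q⟩ : Nonempty (Sylow q Γ) := inferInstance
  obtain ⟨hQn, H₀, hH₀n, hH₀q, hdisj, hsup⟩ := Cfsg.Agent.S4035.result (G := Γ) (p := q) (fun x hx => by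
    rw [ncard_carrier]
    rcases hsz x hx with h | h <;> rw [h]
    · exact fun h => hq.one_lt.ne' (Nat.dvd_one.1 h)
    · exact hqn) Q
  have hcomm : ∀ a ∈ (Q : Subgroup Γ), ∀ b ∈ H₀, Commute a b := by
    intro a ha b hb
    exact Subgroup.commute_of_normal_of_disjoint _ _ hQn hH₀n (disjoint_iff.2 hdisj) a b ha hb
  -- class sizes in `H₀`
  have hszH₀ : ∀ u : H₀, cs u = cs (u : Γ) := by
    intro u
    rw [cs_subtype]
    apply relIndex_eq_index_of_sup
    rw [eq_top_iff, ← hsup]
    apply sup_le_sup_right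
    intro a ha
    exact mem_cent_iff.2 (hcomm a ha u u.2).symm.eq
  have hcoH₀ : ∀ u : H₀, Nat.Coprime (orderOf (u : Γ)) q := by
    intro u
    have h1 : orderOf (u : Γ) ∣ Nat.card H₀ := by
      rw [Subgroup.orderOf_coe u]
      exact _root_.orderOf_dvd_natCard u
    exact Nat.Coprime.coprime_dvd_left h1 ((Nat.Prime.coprime_iff_not_dvd hq).2 hH₀q).symm
  have hTwo : ∀ u : H₀, (cent u).index = 1 ∨ (cent u).index = n := by
    intro u
    show cs u = 1 ∨ cs u = n
    rw [hszH₀]
    exact hsz _ (hcoH₀ u)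
  obtain ⟨p, hp, hpq⟩ := TwoSize.exists_isPGroup_quotient hTwo hn1
  haveI : Fact p.Prime := ⟨hp⟩
  constructor
  · -- nilpotency
    haveI : Group.IsNilpotent (H₀ ⧸ center H₀) := hpq.isNilpotent
    haveI : Group.IsNilpotent H₀ := Group.of_quotient_center_nilpotent inferInstance
    haveI : Group.IsNilpotent (Q : Subgroup Γ) := Q.2.isNilpotent
    let f : ↥(Q : Subgroup Γ) × ↥H₀ →* Γ := MonoidHom.noncommCoprod (Q : Subgroup Γ).subtype H₀.subtype
      (fun a b => hcomm a a.2 b b.2)
    have hf : Function.Surjective f := by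
      intro g
      have hg : g ∈ ((Q : Subgroup Γ) ⊔ H₀ : Subgroup Γ) := by
        rw [hsup]
        trivial
      rw [← SetLike.mem_coe, Subgroup.mul_normal] at hg
      obtain ⟨a, ha, b, hb, rfl⟩ := Set.mem_mul.1 hg
      exact ⟨(⟨a, ha⟩, ⟨b, hb⟩), rfl⟩
    exact Group.nilpotent_of_surjective f hf
  · -- `n` is a prime power
    obtain ⟨x₁, s, i, hs, hsx, hox⟩ := exists_primary_right H.symm
    haveI : Fact s.Prime := ⟨hs⟩
    have hsn : s ∣ n := dvd_of_elt H.symm hsx hox
    have hsq : s ≠ q := by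
      rintro rfl
      exact hqn hsn
    have hx₁Γ : x₁ ∈ Γ := mem_cent_iff.2 (comm_of_sizes H hsx hy).symm.eq
    set x' : Γ := ⟨x₁, hx₁Γ⟩ with hx'
    have hox' : orderOf x' = s ^ i := by
      rw [← hox]
      exact Subgroup.orderOf_mk x₁ _
    -- `x'` lies in `H₀`
    have hx'H₀ : x' ∈ H₀ := by
      have hg : x' ∈ ((Q : Subgroup Γ) ⊔ H₀ : Subgroup Γ) := by
        rw [hsup]
        trivial
      rw [← SetLike.mem_coe, Subgroup.mul_normal] at hg
      obtain ⟨a, ha, b, hb, hab⟩ := Set.mem_mul.1 hg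
      have hcab : Commute a b := hcomm a ha b hb
      have hpow : x' ^ Nat.card H₀ = a ^ Nat.card H₀ := by
        have hb1 : b ^ Nat.card H₀ = 1 := by
          have h0 := pow_card_eq_one' (G := H₀) (x := ⟨b, hb⟩)
          exact congrArg Subtype.val h0
        rw [← hab, hcab.mul_pow, hb1, mul_one]
      obtain ⟨j, hj⟩ := Cfsg.Agent.Lib.Basic.SylowUtil.orderOf_eq_pow_of_isPGroup Q.2 ha
      have h1 : orderOf (a ^ Nat.card H₀) ∣ s ^ i := by
        rw [← hpow, ← hox']
        exact orderOf_pow_dvd _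
      have h2 : orderOf (a ^ Nat.card H₀) ∣ q ^ j := by
        rw [← hj]
        exact orderOf_pow_dvd _
      have h3 : Nat.Coprime (s ^ i) (q ^ j) := Nat.Coprime.pow _ _ ((Nat.coprime_primes hs hq).2 hsq)
      have h4 : orderOf (a ^ Nat.card H₀) = 1 := Nat.eq_one_of_dvd_coprimes h3 h1 h2
      have h5 : a ^ Nat.card H₀ = 1 := orderOf_eq_one_iff.1 h4
      have h6 : orderOf a ∣ Nat.card H₀ := orderOf_dvd_of_pow_eq_one h5
      have h7 : a = 1 := by
        rw [hj] at h6
        rcases Nat.eq_zero_or_pos j with rfl | hj0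
        · rw [pow_zero] at hj
          exact orderOf_eq_one_iff.1 hj
        · exfalso
          exact hH₀q ((dvd_pow_self q hj0.ne').trans h6)
      rw [h7, one_mul] at hab
      rw [← hab]
      exact hb
    set u : H₀ := ⟨x', hx'H₀⟩ with hu
    have hcsu : cs u = n := by
      rw [hszH₀]
      show cs x' = n
      rw [cs_subtype]
      show (cent x₁).relIndex (cent y) = n
      rw [relIndex_of_coprime (by
        show Nat.Coprime (cs x₁) (cs y)
        rw [hsx, hy]
        exact H.hcop)]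
      exact hsx
    have h1 : n ∣ Nat.card (H₀ ⧸ center H₀) := by
      rw [← hcsu]
      have h2 := TwoSize.index_map_mk_center u
      show (cent u).index ∣ _
      rw [← h2]
      exact Subgroup.index_dvd_card _
    obtain ⟨k, hk⟩ := (IsPGroup.iff_card.1 hpq)
    rw [hk] at h1
    obtain ⟨j, _, hj⟩ := (Nat.dvd_prime_pow hp).1 h1
    rw [isPrimePow_nat_iff]
    refine ⟨p, j, hp, ?_, hj.symm⟩
    rcases Nat.eq_zero_or_pos j with rfl | h
    · rw [pow_zero] at hj
      omega
    · exact h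

end stepIII

section stepIV

variable {n m : ℕ} (H : Hyp G n m)

include H

/-- Sylow subgroups for primes dividing `m` are normal. -/
theorem sylow_normal {q : ℕ} [Fact q.Prime] (hqm : q ∣ m) (Q : Sylow q G) : (Q : Subgroup G).Normal := by
  have hn1 := H.hn
  have hm1 := H.hm
  have hq : q.Prime := Fact.out
  -- `n` and `m` are prime powers
  obtain ⟨y₀, t, i₀, ht, hy₀, hoy₀⟩ := exists_primary_right H
  haveI : Fact t.Prime := ⟨ht⟩
  obtain ⟨x₀, s, j₀, hs, hx₀, hox₀⟩ := exists_primary_right H.symm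
  haveI : Fact s.Prime := ⟨hs⟩
  have hnp := (nilp_cent H hy₀ hoy₀).2
  have hmp := (nilp_cent H.symm hx₀ hox₀).2
  obtain ⟨p, a, hp, ha, hpa⟩ := (isPrimePow_nat_iff _).1 hnp
  obtain ⟨q', b, hq', hb, hqb⟩ := (isPrimePow_nat_iff _).1 hmp
  haveI : Fact p.Prime := ⟨hp⟩
  have hqq' : q = q' := by
    rw [← hqb] at hqm
    exact (Nat.prime_dvd_prime_iff_eq hq hq').1 (hq.dvd_of_dvd_pow hqm)
  subst hqq'
  have hpq : Nat.Coprime p q := by
    have h1 : Nat.Coprime (p ^ a) (q ^ b) := by
      rw [hpa, hqb]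
      exact H.hcop
    exact Nat.Coprime.coprime_dvd_left (dvd_pow_self p ha.ne') (Nat.Coprime.coprime_dvd_right (dvd_pow_self q hb.ne') h1)
  have hpne : p ≠ q := by
    rintro rfl
    have := Nat.eq_one_of_dvd_coprimes hpq (dvd_refl p) (dvd_refl p)
    have h2 := hp.one_lt
    omega
  have hpn : p ∣ n := by
    rw [← hpa]
    exact dvd_pow_self p ha.ne'
  have hqn : ¬ q ∣ n := fun h => by
    have := Nat.eq_one_of_dvd_coprimes H.hcop h hqm
    have h2 := hq.one_lt
    omega
  have hpm : ¬ p ∣ m := fun h => by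
    have := Nat.eq_one_of_dvd_coprimes H.hcop hpn h
    have h2 := hp.one_lt
    omega
  -- primary elements
  have hsp : s = p := by
    have h1 := dvd_of_elt H.symm hx₀ hox₀
    rw [← hpa] at h1
    exact (Nat.prime_dvd_prime_iff_eq hs hp).1 (hs.dvd_of_dvd_pow h1)
  subst hsp
  have htq : q = t := by
    have h1 := dvd_of_elt H hy₀ hoy₀
    rw [← hqb] at h1
    exact ((Nat.prime_dvd_prime_iff_eq ht hq).1 (ht.dvd_of_dvd_pow h1)).symm
  subst htq
  -- the subgroup generated by `p`-elements of size `n`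
  set Gens : Set G := {x | cs x = n ∧ ∃ e : ℕ, orderOf x = s ^ e} with hGens
  set X : Subgroup G := closure Gens with hX
  have hXn : X.Normal := by
    refine ⟨fun u hu g => ?_⟩
    have h1 : X.map (MulAut.conj g).toMonoidHom ≤ X := by
      rw [hX, MonoidHom.map_closure]
      apply (closure_le _).2
      rintro _ ⟨c, ⟨hc1, e, hc2⟩, rfl⟩
      apply Subgroup.subset_closure
      have h3 : (MulAut.conj g).toMonoidHom c = g * c * g⁻¹ := by simp [MulAut.conj_apply]
      rw [h3]
      refine ⟨by rw [cs_conj]; exact hc1, e, ?_⟩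
      rw [← hc2, ← h3]
      exact orderOf_injective _ (MulAut.conj g).injective c
    apply h1
    exact ⟨u, hu, by simp [MulAut.conj_apply]⟩
  have hXp : IsPGroup s X := by
    haveI hnil : Group.IsNilpotent (cent y₀) := (nilp_cent H hy₀ hoy₀).1
    obtain ⟨P₀⟩ : Nonempty (Sylow s (cent y₀)) := inferInstance
    have h1 : X ≤ (P₀ : Subgroup (cent y₀)).map (cent y₀).subtype := by
      apply (closure_le _).2
      rintro c ⟨hc1, e, hc2⟩
      have hcm : c ∈ cent y₀ := mem_cent_iff.2 (comm_of_sizes H hc1 hy₀).symm.eq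
      have h2 : (⟨c, hcm⟩ : cent y₀) ∈ (P₀ : Subgroup (cent y₀)) := by
        apply Cfsg.Agent.Lib.Nilpotent.Elements.mem_sylow_of_pow_eq_one P₀ (k := e)
        apply Subtype.ext
        show c ^ s ^ e = 1
        rw [← hc2, pow_orderOf_eq_one]
      exact ⟨_, h2, rfl⟩
    exact (P₀.2.map _).to_le h1
  obtain ⟨P⟩ : Nonempty (Sylow s G) := inferInstance
  have hXP : X ≤ (P : Subgroup G) := normal_le_sylow hXp P
  have hx₀X : x₀ ∈ X := Subgroup.subset_closure ⟨hx₀, j₀, hox₀⟩
  have hx₀P : x₀ ∈ (P : Subgroup G) := hXP hx₀X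
  -- the centre of `P` is central
  have hZP : ∀ c : P, c ∈ center P → (c : G) ∈ center G := by
    intro c hc
    obtain ⟨i, hi⟩ := Cfsg.Agent.Lib.Basic.SylowUtil.orderOf_eq_pow_of_isPGroup P.2 c.2
    have h1 : (P : Subgroup G) ≤ cent (c : G) := by
      intro u hu
      have h2 := Subgroup.mem_center_iff.1 hc ⟨u, hu⟩
      exact mem_cent_iff.2 (congrArg Subtype.val h2).symm
    have h2 := not_dvd_cs_of_sylow_le P h1
    rcases H.hs (c : G) with h | h | h | h
    · exact index_cent_eq_one_iff.1 h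
    · rw [h] at h2
      exact absurd hpn h2
    · have := dvd_of_elt H h hi
      exact absurd this hpm
    · rw [h] at h2
      exact absurd (hpn.trans (dvd_mul_right _ _)) h2
  -- the element `e`
  set D : Subgroup P := X.subgroupOf P with hD
  have hDn : D.Normal := Subgroup.Normal.subgroupOf hXn P
  have hDne : ¬ D ≤ center P := by
    intro h
    have h1 : (⟨x₀, hx₀P⟩ : P) ∈ D := Subgroup.mem_subgroupOf.2 hx₀X
    have h2 : x₀ ∈ center G := hZP _ (h h1)
    have h3 := index_cent_eq_one_iff.2 h2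
    have h4 : (cent x₀).index = n := hx₀
    omega
  obtain ⟨e₀, he₀D, he₀Z, he₀t⟩ := exists_mem_second_center P.2 D hDne
  set e : G := (e₀ : G) with he
  have heX : e ∈ X := Subgroup.mem_subgroupOf.1 he₀D
  have heZ : e ∉ center G := by
    intro h
    apply he₀Z
    rw [Subgroup.mem_center_iff]
    intro g
    apply Subtype.ext
    exact Subgroup.mem_center_iff.1 h (g : G)
  have hecomm : ∀ t ∈ (P : Subgroup G), t * e * t⁻¹ * e⁻¹ ∈ center G := by
    intro t ht
    exact hZP _ (he₀t ⟨t, ht⟩)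
  have hoX : ∀ w ∈ X, ∃ k, orderOf w = s ^ k := fun w hw =>
    Cfsg.Agent.Lib.Basic.SylowUtil.orderOf_eq_pow_of_isPGroup hXp hw
  obtain ⟨ke, hke⟩ := hoX e heX
  -- `e` has class size `n`
  have hnilx₀ : Group.IsNilpotent (cent x₀) := (nilp_cent H.symm hx₀ hox₀).1
  have hq_not : ¬ q ∣ cs x₀ := by rwa [hx₀]
  obtain ⟨Q₁, hQ₁⟩ := exists_sylow_le_cent hq_not
  have hQ₁e : (Q₁ : Subgroup G) ≤ cent e := by
    intro a ha
    have hax₀ : Commute x₀ a := mem_cent_iff.1 (hQ₁ ha)
    obtain ⟨ka, hka⟩ := Cfsg.Agent.Lib.Basic.SylowUtil.orderOf_eq_pow_of_isPGroup Q₁.2 ha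
    set z : G := x₀ * e * x₀⁻¹ * e⁻¹ with hz
    have hzZ : z ∈ center G := hecomm x₀ hx₀P
    have hzc : ∀ g : G, g * z = z * g := fun g => Subgroup.mem_center_iff.1 hzZ g
    set e' : G := a * e * a⁻¹ with he'
    set w : G := e⁻¹ * e' with hw
    have hwX : w ∈ X := X.mul_mem (X.inv_mem heX) (hXn.conj_mem e heX a)
    have h1 : x₀ * e * x₀⁻¹ = z * e := by rw [hz]; group
    have h2 : x₀ * e' * x₀⁻¹ = z * e' := by
      calc x₀ * e' * x₀⁻¹ = a * (x₀ * e * x₀⁻¹) * a⁻¹ := by
            rw [he']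
            have h3 : x₀ * a = a * x₀ := hax₀.eq
            have h4 : a⁻¹ * x₀⁻¹ = x₀⁻¹ * a⁻¹ := ((hax₀.inv_left).inv_right).eq.symm
            calc x₀ * (a * e * a⁻¹) * x₀⁻¹ = (x₀ * a) * e * (a⁻¹ * x₀⁻¹) := by group
              _ = (a * x₀) * e * (x₀⁻¹ * a⁻¹) := by rw [h3, h4]
              _ = _ := by group
        _ = a * (z * e) * a⁻¹ := by rw [h1]
        _ = (a * z) * e * a⁻¹ := by group
        _ = (z * a) * e * a⁻¹ := by rw [hzc a]
        _ = z * e' := by rw [he']; group
    have h3 : x₀ * w * x₀⁻¹ = w := by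
      calc x₀ * w * x₀⁻¹ = (x₀ * e * x₀⁻¹)⁻¹ * (x₀ * e' * x₀⁻¹) := by rw [hw]; group
        _ = (z * e)⁻¹ * (z * e') := by rw [h1, h2]
        _ = w := by rw [hw]; group
    have hwx₀ : w ∈ cent x₀ := by
      rw [mem_cent_iff]
      calc x₀ * w = (x₀ * w * x₀⁻¹) * x₀ := by group
        _ = w * x₀ := by rw [h3]
    obtain ⟨kw, hkw⟩ := hoX w hwX
    -- `a` commutes with `w`
    have haw : Commute a w := by
      have h4 : Nat.Coprime (orderOf (⟨a, hQ₁ ha⟩ : cent x₀)) (orderOf (⟨w, hwx₀⟩ : cent x₀)) := by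
        rw [Subgroup.orderOf_mk, Subgroup.orderOf_mk, hka, hkw]
        exact Nat.Coprime.pow _ _ hpq.symm
      have h5 := Cfsg.Agent.Lib.Nilpotent.Elements.commute_of_coprime_orderOf h4
      exact congrArg Subtype.val h5.eq
    have hpowa : ∀ k : ℕ, a ^ k * e * (a ^ k)⁻¹ = e * w ^ k := by
      intro k
      induction k with
      | zero => simp
      | succ k ih =>
        have h5 : a * w ^ k * a⁻¹ = w ^ k := by
          have h6 : Commute a (w ^ k) := haw.pow_right k
          calc a * w ^ k * a⁻¹ = w ^ k * a * a⁻¹ := by rw [h6.eq]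
            _ = w ^ k := by group
        calc a ^ (k + 1) * e * (a ^ (k + 1))⁻¹ = a * (a ^ k * e * (a ^ k)⁻¹) * a⁻¹ := by
              rw [pow_succ']
              group
          _ = a * (e * w ^ k) * a⁻¹ := by rw [ih]
          _ = e' * (a * w ^ k * a⁻¹) := by rw [he']; group
          _ = e' * w ^ k := by rw [h5]
          _ = e * w * w ^ k := by rw [hw]; group
          _ = e * w ^ (k + 1) := by rw [pow_succ']; group
    have h5 := hpowa (orderOf a)
    rw [pow_orderOf_eq_one, one_mul, inv_one, mul_one] at h5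
    have h6 : w ^ orderOf a = 1 := by
      have h7 : e * w ^ orderOf a = e * 1 := by rw [← h5, mul_one]
      exact mul_left_cancel h7
    have h7 : orderOf w ∣ orderOf a := orderOf_dvd_of_pow_eq_one h6
    have h8 : orderOf w = 1 := by
      have h9 : Nat.Coprime (orderOf w) (orderOf a) := by
        rw [hkw, hka]
        exact Nat.Coprime.pow _ _ hpq
      exact Nat.eq_one_of_dvd_coprimes h9 (dvd_refl _) h7
    have h9 : w = 1 := orderOf_eq_one_iff.1 h8
    have h10 : e' = e := by
      have h11 : e⁻¹ * e' = 1 := h9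
      exact (inv_mul_eq_one.1 h11).symm
    rw [mem_cent_iff]
    calc e * a = e' * a := by rw [h10]
      _ = a * e := by rw [he']; group
  have hqe : ¬ q ∣ cs e := not_dvd_cs_of_sylow_le Q₁ hQ₁e
  have hcse : cs e = n := by
    rcases H.hs e with h | h | h | h
    · exact absurd (index_cent_eq_one_iff.1 h) heZ
    · exact h
    · rw [h] at hqe
      exact absurd hqm hqe
    · rw [h] at hqe
      exact absurd (hqm.trans (dvd_mul_left _ _)) hqe
  -- `cent e` is normal
  have hnile : Group.IsNilpotent (cent e) := (nilp_cent H.symm hcse hke).1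
  have hcop : Nat.Coprime (cent e).index (P : Subgroup G).index := by
    show Nat.Coprime (cs e) _
    rw [hcse, ← hpa]
    apply Nat.Coprime.pow_left
    exact (Nat.Prime.coprime_iff_not_dvd hp).2 P.not_dvd_index
  have hconj : ∀ g : G, ∃ z ∈ center G, g * e * g⁻¹ = z * e := by
    intro g
    obtain ⟨c, hc, t, ht, rfl⟩ := exists_mul_of_coprime hcop g
    have h1 := hecomm t ht
    set z : G := t * e * t⁻¹ * e⁻¹ with hz
    refine ⟨z, h1, ?_⟩
    have h2 : t * e * t⁻¹ = z * e := by rw [hz]; group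
    have h3 : Commute e c := mem_cent_iff.1 hc
    have h4 : ∀ g : G, g * z = z * g := fun g => Subgroup.mem_center_iff.1 h1 g
    calc c * t * e * (c * t)⁻¹ = c * (t * e * t⁻¹) * c⁻¹ := by group
      _ = c * (z * e) * c⁻¹ := by rw [h2]
      _ = (c * z) * e * c⁻¹ := by group
      _ = z * (c * e) * c⁻¹ := by rw [h4 c]; group
      _ = z * (e * c) * c⁻¹ := by rw [h3.eq]
      _ = z * e := by group
  have hCn : (cent e).Normal := by
    refine ⟨fun u hu g => ?_⟩
    obtain ⟨z, hzZ, hz⟩ := hconj g⁻¹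
    have h1 : Commute e u := mem_cent_iff.1 hu
    have h2 : g⁻¹ * e * g⁻¹⁻¹ = z * e := hz
    rw [mem_cent_iff]
    have h3 : e = g * (z * e) * g⁻¹ := by
      rw [← h2]
      group
    have h4 : ∀ g : G, g * z = z * g := fun g => Subgroup.mem_center_iff.1 hzZ g
    -- conjugate back
    have h5 : Commute (z * e) u := (show Commute z u from (h4 u).symm).mul_left h1
    have h6 : Commute (g * (z * e) * g⁻¹) (g * u * g⁻¹) := by
      have := h5.eq
      show g * (z * e) * g⁻¹ * (g * u * g⁻¹) = g * u * g⁻¹ * (g * (z * e) * g⁻¹)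
      calc g * (z * e) * g⁻¹ * (g * u * g⁻¹) = g * ((z * e) * u) * g⁻¹ := by group
        _ = g * (u * (z * e)) * g⁻¹ := by rw [this]
        _ = _ := by group
    rw [← h3] at h6
    exact h6
  -- the Sylow subgroup `Q` lies in `cent e`
  have hqce : ¬ q ∣ (cent e).index := hqe
  obtain ⟨g₀, hg₀⟩ := Cfsg.Agent.S4035.exists_conj_sylow_le Q (cent e) hqce
  have hQC : (Q : Subgroup G) ≤ cent e := by
    intro u hu
    have h1 : g₀ * u * g₀⁻¹ ∈ ((g₀ • Q : Sylow q G) : Subgroup G) := by
      rw [Sylow.coe_subgroup_smul]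
      exact ⟨u, hu, rfl⟩
    have h2 := hCn.conj_mem _ (hg₀ h1) g₀⁻¹
    have h3 : g₀⁻¹ * (g₀ * u * g₀⁻¹) * g₀⁻¹⁻¹ = u := by group
    rwa [h3] at h2
  refine ⟨fun u hu g => ?_⟩
  have hu1 := hCn.conj_mem u (hQC hu) g
  obtain ⟨k, hk⟩ := Cfsg.Agent.Lib.Basic.SylowUtil.orderOf_eq_pow_of_isPGroup Q.2 hu
  set Q' : Sylow q (cent e) := Q.subtype hQC with hQ'
  have h2 : (⟨g * u * g⁻¹, hu1⟩ : cent e) ∈ (Q' : Subgroup (cent e)) := by
    apply Cfsg.Agent.Lib.Nilpotent.Elements.mem_sylow_of_pow_eq_one Q' (k := k)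
    apply Subtype.ext
    show (g * u * g⁻¹) ^ q ^ k = 1
    have h3 : (g * u * g⁻¹) ^ q ^ k = g * u ^ q ^ k * g⁻¹ := by
      rw [conj_pow]
    rw [h3, ← hk, pow_orderOf_eq_one]
    group
  rw [hQ', Sylow.coe_subtype, Subgroup.mem_subgroupOf] at h2
  exact h2

/-- **Camina**: the group is nilpotent, and `n`, `m` are prime powers. -/
theorem main : Group.IsNilpotent G ∧ IsPrimePow n ∧ IsPrimePow m := by
  obtain ⟨y₀, t, i₀, ht, hy₀, hoy₀⟩ := exists_primary_right H
  haveI : Fact t.Prime := ⟨ht⟩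
  obtain ⟨x₀, s, j₀, hs, hx₀, hox₀⟩ := exists_primary_right H.symm
  haveI : Fact s.Prime := ⟨hs⟩
  refine ⟨?_, (nilp_cent H hy₀ hoy₀).2, (nilp_cent H.symm hx₀ hox₀).2⟩
  refine ((Group.isNilpotent_of_finite_tfae (G := G)).out 0 3 rfl rfl).2 ?_
  intro p hp P
  by_cases h1 : p ∣ m
  · exact sylow_normal H h1 P
  by_cases h2 : p ∣ n
  · exact sylow_normal H.symm h2 P
  -- central Sylow subgroup
  have h3 : ¬ p ∣ n * m := fun h => (Nat.Prime.dvd_mul hp.out).1 h |>.elim h2 h1
  have hle : (P : Subgroup G) ≤ center G := by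
    intro u hu
    obtain ⟨k, hk⟩ := Cfsg.Agent.Lib.Basic.SylowUtil.orderOf_eq_pow_of_isPGroup P.2 hu
    exact mem_center_of_not_dvd_mul H h3 hk
  refine ⟨fun u hu g => ?_⟩
  have h4 := Subgroup.mem_center_iff.1 (hle hu) g
  have h5 : g * u * g⁻¹ = u := by
    rw [h4]
    group
  rw [h5]
  exact hu

end stepIV

end Cfsg.Agent.Lib.ClassSize.Camina
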